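import Cfsg.Agent.Lib.J4Type19.Main

/-!
# The normaliser of an elementary abelian subgroup of order `2^11` controls fusion in it
-/

set_option autoImplicit false

namespace Cfsg.Agent.Lib.J4Fus79

open Cfsg

variable {G : Type*} [Group G] [Finite G]

/-- Elements of `V` conjugate in `G` are conjugate by an element normalising `V`. -/
theorem exists_normalizer_conj (hJ : IsOfJankoFourType G) {V : Subgroup G}
    (hV : IsElementaryAbelian 2 V) (hc : Nat.card ↥V = 2 ^ 11) {x y : G} (hx : x ∈ V) (hy : y ∈ V)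
    (g : G) (hg : g * x * g⁻¹ = y) :
    ∃ n ∈ Subgroup.normalizer (V : Set G), n * x * n⁻¹ = y := by
  classical
  have : Fact (Nat.Prime 2) := ⟨Nat.prime_two⟩
  have hcomm : ∀ a ∈ V, ∀ b ∈ V, a * b = b * a := fun a ha b hb =>
    congrArg Subtype.val (hV.1.1.1 ⟨a, ha⟩ ⟨b, hb⟩)
  set C := Subgroup.centralizer ({y} : Set G) with hC
  set W := V.map (MulAut.conj g).toMonoidHom with hW
  have hVC : V ≤ C := fun v hv => Subgroup.mem_centralizer_singleton_iff.2 (hcomm v hv y hy)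
  have hWC : W ≤ C := by
    rintro _ ⟨v, hv, rfl⟩
    refine Subgroup.mem_centralizer_singleton_iff.2 ?_
    rw [← hg]
    show g * v * g⁻¹ * (g * x * g⁻¹) = g * x * g⁻¹ * (g * v * g⁻¹)
    rw [show g * v * g⁻¹ * (g * x * g⁻¹) = g * (v * x) * g⁻¹ by group, hcomm v hv x hx]
    group
  have hV2 : IsPGroup 2 ↥V := IsPGroup.of_card hc
  have hW2 : IsPGroup 2 ↥W := hV2.map _
  obtain ⟨A, hA⟩ := (hV2.comap_of_injective C.subtype C.subtype_injective).exists_le_sylow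
  obtain ⟨B, hB⟩ := (hW2.comap_of_injective C.subtype C.subtype_injective).exists_le_sylow
  obtain ⟨c, hcB⟩ := MulAction.exists_smul_eq ↥C B A
  set W' := W.map (MulAut.conj (c : G)).toMonoidHom with hW'
  have hVA : V ≤ (A : Subgroup ↥C).map C.subtype := fun v hv => ⟨⟨v, hVC hv⟩, hA hv, rfl⟩
  have hWA : W' ≤ (A : Subgroup ↥C).map C.subtype := by
    rintro _ ⟨w, hw, rfl⟩
    refine ⟨c * ⟨w, hWC hw⟩ * c⁻¹, ?_, rfl⟩
    rw [← hcB, Sylow.coe_subgroup_smul]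
    exact ⟨⟨w, hWC hw⟩, hB hw, rfl⟩
  obtain ⟨T, hT⟩ := (A.2.map C.subtype).exists_le_sylow
  obtain ⟨U, -, huniq⟩ := J4Type19.exists_unique_elementary hJ T
  have hW'e : IsElementaryAbelian 2 W' := by
    refine ⟨⟨⟨?_⟩⟩, ?_⟩
    · rintro ⟨_, ⟨_, ⟨a, ha, rfl⟩, rfl⟩⟩ ⟨_, ⟨_, ⟨b, hb, rfl⟩, rfl⟩⟩
      apply Subtype.ext
      simp only [Subgroup.coe_mul, MulEquiv.coe_toMonoidHom]
      rw [← map_mul, ← map_mul, ← map_mul, ← map_mul, hcomm a ha b hb]
    · rintro _ ⟨_, ⟨a, ha, rfl⟩, rfl⟩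
      rw [← map_pow, ← map_pow, hV.2 a ha, map_one, map_one]
  have hW'c : Nat.card ↥W' = 2 ^ 11 := by
    rw [hW', hW, Subgroup.map_map, ← Nat.card_congr (Subgroup.equivMapOfInjective V _
      (((MulAut.conj (c : G)).injective).comp (MulAut.conj g).injective)).toEquiv, hc]
  have e : W' = V :=
    (huniq W' ⟨hWA.trans hT, hW'e, hW'c⟩).trans (huniq V ⟨hVA.trans hT, hV, hc⟩).symm
  refine ⟨(c : G) * g, Subgroup.mem_normalizer_iff.2 fun v => ?_, ?_⟩
  · have hmem : ∀ u ∈ V, ((c : G) * g) * u * ((c : G) * g)⁻¹ ∈ V := fun u hu => by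
      rw [← e]
      exact ⟨g * u * g⁻¹, ⟨u, hu, rfl⟩, by
        show (c : G) * (g * u * g⁻¹) * (c : G)⁻¹ = _
        group⟩
    refine ⟨hmem v, fun h => ?_⟩
    rw [← e] at h
    obtain ⟨_, ⟨u, hu, rfl⟩, h'⟩ := h
    have : u = v := by
      have h2 : (c : G) * (g * u * g⁻¹) * (c : G)⁻¹ = (c : G) * g * v * ((c : G) * g)⁻¹ := h'
      rw [show (c : G) * (g * u * g⁻¹) * (c : G)⁻¹ = (c : G) * g * u * ((c : G) * g)⁻¹ by group] at h2
      exact mul_left_cancel (mul_right_cancel h2)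
    exact this ▸ hu
  · rw [show (c : G) * g * x * ((c : G) * g)⁻¹ = (c : G) * (g * x * g⁻¹) * (c : G)⁻¹ by group, hg,
      Subgroup.mem_centralizer_singleton_iff.1 c.2, mul_inv_cancel_right]

end Cfsg.Agent.Lib.J4Fus79
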